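import Mathlib
import Cfsg.Agent.Lib.Helper69.BG40.Defs
import Cfsg.Agent.Lib.Helper59.BG40.PKB2
import Cfsg.Agent.Lib.Helper16.BG.NilHall
import Cfsg.Agent.Lib.Helper23.Transitivity
import Cfsg.Agent.Lib.Helper23.BenderMax
import Cfsg.Agent.Lib.Helper57.BG.HallFusion
import Cfsg.Agent.Lib.Helper35.BG.S1355Core
import Cfsg.Agent.Lib.Helper67.BG.Basics
import Cfsg.Agent.Lib.Helper67.BG.FitUtil

/-!
Package PKC of the S1440 project (helper69): `M_σ` is nilpotent and `M_F = M_σ`.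
-/

set_option autoImplicit false

namespace Cfsg.Agent.Lib.Helper59.BG40

universe u

open Cfsg

/-- A `p`-element of the Fitting subgroup `F(M)` commutes with every normal subgroup of `M` of
order prime to `p`. -/
theorem fitting_pelt_comm {G : Type u} [Group G] [Finite G] (M B : Subgroup G) (p : ℕ)
    [Fact p.Prime] (hBM : B ≤ M) (hBn : M ≤ Subgroup.normalizer (B : Set G))
    (hpB : ¬ p ∣ Nat.card ↥B) (x : G) (hxF : x ∈ fittingOf M) (hxp : x ^ p = 1) :
    ∀ b ∈ B, x * b = b * x := by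
  have hp : p.Prime := Fact.out
  have hFM : fittingOf M ≤ M := Cfsg.Agent.Lib.Helper67.BG.fittingOf_le M
  have hFn : M ≤ Subgroup.normalizer (fittingOf M : Set G) :=
    Cfsg.Agent.Lib.Helper23.le_normalizer_fittingOf M
  obtain ⟨P, K', i, j, hPF, hK'F, hPp, hK'cop, -, -, hdec⟩ :=
    Cfsg.Agent.Lib.Helper16.BG.nil_decomp (fittingOf M)
      (Cfsg.Agent.Lib.Helper67.BG.fittingOf_isNilpotent M) p
  -- `p`-elements of `F(M)` lie in `P`
  have hP : ∀ y ∈ fittingOf M, y ^ p = 1 → y ∈ P := by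
    intro y hy hyp
    obtain ⟨h1, h2, h3⟩ := hdec y hy
    have h4 : (y ^ j) ^ p = 1 := by
      rw [← zpow_natCast, ← zpow_mul, mul_comm, zpow_mul, zpow_natCast, hyp, one_zpow]
    have h5 : orderOf (y ^ j) ∣ p := orderOf_dvd_of_pow_eq_one h4
    have h6 : orderOf (y ^ j) ∣ Nat.card ↥K' := by
      have := orderOf_dvd_natCard (⟨y ^ j, h2⟩ : ↥K')
      rwa [Subgroup.orderOf_mk] at this
    have h7 : orderOf (y ^ j) = 1 := Nat.eq_one_of_dvd_coprimes hK'cop h6 h5
    have h8 : y ^ j = 1 := orderOf_eq_one_iff.mp h7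
    rw [h8, mul_one] at h3
    rw [← h3]
    exact h1
  intro b hb
  have hxM : x ∈ M := hFM hxF
  have hbM : b ∈ M := hBM hb
  have hc1 : x * b * x⁻¹ * b⁻¹ ∈ B :=
    B.mul_mem ((Subgroup.le_normalizer_iff.mp hBn) x hxM b hb) (B.inv_mem hb)
  have hy : b * x⁻¹ * b⁻¹ ∈ fittingOf M :=
    (Subgroup.le_normalizer_iff.mp hFn) b hbM x⁻¹ (inv_mem hxF)
  have hyp : (b * x⁻¹ * b⁻¹) ^ p = 1 := by
    rw [conj_pow, inv_pow, hxp, inv_one, mul_one, mul_inv_cancel]
  have hc2 : x * b * x⁻¹ * b⁻¹ ∈ P := by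
    have e : x * b * x⁻¹ * b⁻¹ = x * (b * x⁻¹ * b⁻¹) := by group
    rw [e]
    exact P.mul_mem (hP x hxF hxp) (hP _ hy hyp)
  have hc : x * b * x⁻¹ * b⁻¹ = 1 := by
    obtain ⟨k, hk⟩ := hPp ⟨_, hc2⟩
    have h1 : orderOf (x * b * x⁻¹ * b⁻¹) ∣ p ^ k := by
      apply orderOf_dvd_of_pow_eq_one
      have := congrArg (fun z : ↥P => (z : G)) hk
      simpa using this
    have h2 : orderOf (x * b * x⁻¹ * b⁻¹) ∣ Nat.card ↥B := by
      have := orderOf_dvd_natCard (⟨_, hc1⟩ : ↥B)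
      rwa [Subgroup.orderOf_mk] at this
    have h3 : (Nat.card ↥B).Coprime (p ^ k) :=
      Nat.Coprime.pow_right k ((Nat.Prime.coprime_iff_not_dvd hp).mpr hpB).symm
    exact orderOf_eq_one_iff.mp (Nat.eq_one_of_dvd_coprimes h3 h2 h1)
  have e2 : x * b = (x * b * x⁻¹ * b⁻¹) * (b * x) := by group
  rw [e2, hc, one_mul]

theorem pkC : Cfsg.Agent.Lib.Helper69.BG40.PKC.{u} := by
  intro G _ _ hG h1350 h1414 M hM p hpβ x D hL
  have hp := hL.hp
  have : Fact p.Prime := ⟨hp⟩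
  obtain ⟨hBhall, -, -, ⟨H, hHhall, hHnil⟩, -⟩ := h1414 M hM
  have hBM : piCoreOf (beta M) M ≤ M := hBhall.1
  have hBn : M ≤ Subgroup.normalizer (piCoreOf (beta M) M : Set G) :=
    Cfsg.Agent.Lib.Helper23.piCoreOf_normalizer (beta M) M
  have hpB : ¬ p ∣ Nat.card ↥(piCoreOf (beta M) M) := fun h => hpβ (hBhall.2.1 p hp h)
  have hxp : x ^ p = 1 := by rw [← hL.hxo]; exact pow_orderOf_eq_one x
  have hxB := fitting_pelt_comm M (piCoreOf (beta M) M) p hBM hBn hpB x hL.hxF hxp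
  have hBD : piCoreOf (beta M) M ≤ D := by
    intro b hb
    apply hL.hCD
    refine ⟨hBM hb, ?_⟩
    show b ∈ Subgroup.centralizer ({x} : Set G)
    rw [Subgroup.mem_centralizer_singleton_iff]
    exact (hxB b hb).symm
  -- `β(M) = ∅`
  have hβ : ∀ q : ℕ, q ∉ beta M := by
    intro q hq
    have hqp : q.Prime := hq.1.1
    have hα : ¬ PRankLE q 2 ↥M := hq.1.2
    apply hα
    rw [Cfsg.Agent.Lib.Helper24.pRankLE_subgroup_iff]
    intro A hAM hAc hAexp
    have hAe : IsElementaryAbelian q A :=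
      ⟨Cfsg.Agent.Lib.Helper35.BG.isMulCommutative_subgroup_iff.mpr hAc, hAexp⟩
    by_cases hA1 : Nat.card ↥A = 1
    · rw [hA1]
      exact Nat.one_le_pow _ _ hqp.pos
    · -- `A` is a `q`-group, so lies in the normal Hall subgroup `M_β`
      have hAq : IsPGroup q ↥A := by
        intro a
        refine ⟨1, ?_⟩
        rw [pow_one]
        apply Subtype.ext
        simpa using hAexp a a.2
      have : Fact q.Prime := ⟨hqp⟩
      obtain ⟨n, hn⟩ := IsPGroup.iff_card.mp hAq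
      have hcop : (Nat.card ↥A).Coprime ((piCoreOf (beta M) M).relIndex M) := by
        rw [hn]
        apply Nat.Coprime.pow_left
        exact (Nat.Prime.coprime_iff_not_dvd hqp).mpr (hBhall.2.2 q hqp hq)
      have hAB : A ≤ piCoreOf (beta M) M :=
        Cfsg.Agent.Lib.Helper57.BG.le_of_coprime_relIndex_of_normal hBM hAM hBn hcop
      exact hL.hrk q hqp A (hAB.trans hBD) hAe
  -- the nilpotent Hall `β'`-subgroup of `M_σ` is `M_σ`
  have hHeq : H = sigmaCore M := by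
    have h1 : H.relIndex (sigmaCore M) = 1 := by
      by_contra hne
      obtain ⟨q, hq, hqd⟩ := Nat.exists_prime_and_dvd hne
      exact hHhall.2.2 q hq ⟨hq, hβ q⟩ hqd
    exact le_antisymm hHhall.1 (Subgroup.relIndex_eq_one.mp h1)
  have hnil : Group.IsNilpotent ↥(sigmaCore M) := hHeq ▸ hHnil
  refine ⟨hnil, le_antisymm (Cfsg.Agent.Lib.Helper35.BG.fittingHallOf_le_sigmaCore hG M hM) ?_⟩
  -- `M_σ ≤ M_F`
  unfold fittingHallOf sigmaCore
  apply Subgroup.map_mono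
  unfold fittingHall
  apply le_sSup
  refine ⟨inferInstance, ?_, ?_⟩
  · have hnil' : Group.IsNilpotent ↥((piCore (sigma M) ↥M).map M.subtype) := hnil
    exact Group.nilpotent_of_mulEquiv
      ((piCore (sigma M) ↥M).equivMapOfInjective M.subtype M.subtype_injective).symm
  · rw [Nat.coprime_iff_gcd_eq_one]
    by_contra hne
    obtain ⟨q, hq, hqd⟩ := Nat.exists_prime_and_dvd hne
    have h1 : q ∣ Nat.card ↥(piCore (sigma M) ↥M) := hqd.trans (Nat.gcd_dvd_left _ _)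
    have h2 : q ∣ (piCore (sigma M) ↥M).index := hqd.trans (Nat.gcd_dvd_right _ _)
    have h3 : q ∈ sigma M := Cfsg.Agent.S3743.piCore_isPi (sigma M) q hq h1
    apply (h1350 M hM).1.2.2 q hq h3
    rw [Cfsg.Agent.Lib.Helper67.BG.relIndex_sigmaCore]
    exact h2

end Cfsg.Agent.Lib.Helper59.BG40
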